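import Groth.Agent.Fano.K123.Van
import Groth.Agent.Fano.K980.SecP1
import Groth.Agent.Fano.K188.LinP1

/-!
# The sections `X_0^(e-j) X_1^j` of `O(e)` on the projective line

* `mon R e j` on `P^1_R`, `ms r e j` their pullback along `r : X ⟶ P^1_R`;
* `exists_gen`: if `r^* X_0 = A t`, `r^* X_1 = B t` for a generator `t` of `r^* O(1)`, then there is a generator `t'` of
  `r^* O(e)` with `r^* (X_0^(e-j) X_1^j) = A^(e-j) B^j t'`.
-/

set_option autoImplicit false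

universe u

open CategoryTheory CategoryTheory.Limits AlgebraicGeometry TopologicalSpace Opposite

namespace K741.HonC

open K390.PnSec Groth.Agent.Fdesc.LocGen Groth.Agent.Dix.ProjProper
open Groth.Agent.Ega2.H295.PnUniq Groth.Agent.Ega2.H295.PnCoord
open Groth.Agent.Ega2 Groth.Agent.VarietyB
open Groth.Agent.Sga67.PnGlobal

attribute [local instance] MvPolynomial.gradedAlgebra

section Mon

/-- The exponent `(e - j, j)`. -/
def ex2 (e : ℕ) (j : Fin (e + 1)) : Exp 1 e :=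
  ⟨![e - (j : ℕ), (j : ℕ)], by
    rw [Fin.sum_univ_two]
    change e - (j : ℕ) + (j : ℕ) = e
    omega⟩

theorem ex2_bijective (e : ℕ) : Function.Bijective (ex2 e) := by
  constructor
  · intro i j h
    exact Fin.ext (congrFun (congrArg Subtype.val h) 1)
  · rintro ⟨P, hP⟩
    rw [Fin.sum_univ_two] at hP
    refine ⟨⟨P 1, by omega⟩, Subtype.ext (funext fun i => ?_)⟩
    fin_cases i
    · change e - P 1 = P 0
      omega
    · rfl

variable (R : Type u) [CommRing R] (e : ℕ)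

/-- The homogeneous polynomial `X_0^(e-j) X_1^j`. -/
theorem mono_ex2 (j : Fin (e + 1)) :
    (mono R (ex2 e j)).1 = MvPolynomial.X 0 ^ (e - (j : ℕ)) * MvPolynomial.X 1 ^ (j : ℕ) := by
  change MvPolynomial.monomial _ 1 = _
  rw [MvPolynomial.monomial_eq, Finsupp.prod_fintype _ _ (by simp), Fin.prod_univ_two]
  simp [ex2]

/-- The section `X_0^(e-j) X_1^j` of `O(e)`. -/
noncomputable def mon (j : Fin (e + 1)) : Γ(Twist.twist (MvPolynomial.homogeneousSubmodule (Fin (1 + 1)) R) (e : ℤ), ⊤) :=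
  msec R (ex2 e j)

/-- The generator index at the chart `i`. -/
def gi (e : ℕ) : Fin (1 + 1) → Fin (e + 1) := ![0, Fin.last e]

/-- The exponent of `X_{1-i}` in `X_0^(e-j) X_1^j`. -/
def ei (e : ℕ) (j : Fin (e + 1)) : Fin (1 + 1) → ℕ := ![(j : ℕ), e - (j : ℕ)]

theorem mono_gi (i : Fin (1 + 1)) : (mono R (ex2 e (gi e i))).1 = MvPolynomial.X i ^ e := by
  rw [mono_ex2]
  fin_cases i
  · simp [gi]
  · simp [gi]

theorem isGen_res_mon (i : Fin (1 + 1)) :
    IsGen (res (Twist.twist (MvPolynomial.homogeneousSubmodule (Fin (1 + 1)) R) (e : ℤ))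
      (le_top : Dp (Fin (1 + 1)) R i ≤ ⊤) (mon R e (gi e i))) := by
  refine TwistBasic.isGen_fracSec (𝒜 := MvPolynomial.homogeneousSubmodule (Fin (1 + 1)) R) (e : ℤ)
    (mono R (ex2 e (gi e i)))
    (⟨1, SetLike.GradedOne.one_mem⟩ : MvPolynomial.homogeneousSubmodule (Fin (1 + 1)) R 0) (by simp) _
    (fun x _ => VeryAmpleCrit.one_notMem _ x) (fun x hx => ?_)
  rw [mono_gi]
  exact fun h => hx (x.isPrime.mem_of_pow_mem _ h)

theorem ratio_pow_val (i k : Fin (1 + 1)) (N : ℕ) (p : Dp (Fin (1 + 1)) R i) :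
    (((ProjStd.ratio (Fin (1 + 1)) R i k ^ N :
      Γ(Proj (MvPolynomial.homogeneousSubmodule (Fin (1 + 1)) R), Dp (Fin (1 + 1)) R i))).val p).val =
      (Localization.mk (MvPolynomial.X k) ⟨MvPolynomial.X i, p.2⟩) ^ N := by
  rw [← ProjStd.ratio_apply (Fin (1 + 1)) R i k p, ← HomogeneousLocalization.val_pow]
  rfl

theorem mk_mono (i : Fin (1 + 1)) (j : Fin (e + 1))
    (x : ProjectiveSpectrum (MvPolynomial.homogeneousSubmodule (Fin (1 + 1)) R))
    (hx : MvPolynomial.X i ∈ x.asHomogeneousIdeal.toIdeal.primeCompl)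
    (h1 : 1 ∈ x.asHomogeneousIdeal.toIdeal.primeCompl) :
    (Localization.mk (mono R (ex2 e j)).1 ⟨1, h1⟩ : Localization x.asHomogeneousIdeal.toIdeal.primeCompl) =
      (Localization.mk (MvPolynomial.X (1 - i)) ⟨MvPolynomial.X i, hx⟩) ^ (ei e j i) *
        Localization.mk (mono R (ex2 e (gi e i))).1 ⟨1, h1⟩ := by
  rw [Localization.mk_pow, Localization.mk_mul]
  refine Localization.mk_eq_mk_iff.mpr ((Localization.r_iff_exists).mpr ⟨1, ?_⟩)
  have h1 := mono_ex2 R e j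
  have h2 := mono_gi R e i
  have h3 : (j : ℕ) ≤ e := Nat.lt_succ_iff.1 j.2
  simp only [h1, h2, Submonoid.coe_mul, OneMemClass.coe_one, one_mul, mul_one, SubmonoidClass.coe_pow]
  fin_cases i
  · simp only [ei]
    change MvPolynomial.X 0 ^ (j : ℕ) * (MvPolynomial.X 0 ^ (e - (j : ℕ)) * MvPolynomial.X 1 ^ (j : ℕ)) =
      MvPolynomial.X 1 ^ (j : ℕ) * MvPolynomial.X 0 ^ e
    rw [← mul_assoc, ← pow_add, Nat.add_sub_of_le h3, mul_comm]
  · simp only [ei]
    change MvPolynomial.X 1 ^ (e - (j : ℕ)) * (MvPolynomial.X 0 ^ (e - (j : ℕ)) * MvPolynomial.X 1 ^ (j : ℕ)) =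
      MvPolynomial.X 0 ^ (e - (j : ℕ)) * MvPolynomial.X 1 ^ e
    rw [mul_comm, mul_assoc, ← pow_add, Nat.add_sub_of_le h3]

theorem res_mon (i : Fin (1 + 1)) (j : Fin (e + 1)) :
    res (Twist.twist (MvPolynomial.homogeneousSubmodule (Fin (1 + 1)) R) (e : ℤ))
      (le_top : Dp (Fin (1 + 1)) R i ≤ ⊤) (mon R e j) =
      ProjStd.ratio (Fin (1 + 1)) R i (1 - i) ^ (ei e j i) •
        res (Twist.twist (MvPolynomial.homogeneousSubmodule (Fin (1 + 1)) R) (e : ℤ))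
        (le_top : Dp (Fin (1 + 1)) R i ≤ ⊤) (mon R e (gi e i)) := by
  refine Subtype.ext (funext fun x => Subtype.ext ?_)
  refine Eq.trans ?_ (TwistBasic.smulS_val (𝒜 := MvPolynomial.homogeneousSubmodule (Fin (1 + 1)) R) (e : ℤ)
    (ProjStd.ratio (Fin (1 + 1)) R i (1 - i) ^ (ei e j i))
    (res (Twist.twist (MvPolynomial.homogeneousSubmodule (Fin (1 + 1)) R) (e : ℤ))
      (le_top : Dp (Fin (1 + 1)) R i ≤ ⊤) (mon R e (gi e i))) x).symm
  have h := mk_mono R e i j x.1 x.2 (VeryAmpleCrit.one_notMem (MvPolynomial.homogeneousSubmodule (Fin (1 + 1)) R) x.1)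
  rw [← ratio_pow_val R i (1 - i) (ei e j i) x] at h
  exact h

end Mon

section Pull

variable {X : Scheme.{u}} {R : Type u} [CommRing R]

/-- The module `r^* O(e)`. -/
noncomputable abbrev Oe (r : X ⟶ Proj (MvPolynomial.homogeneousSubmodule (Fin (1 + 1)) R)) (e : ℕ) : X.Modules :=
  (Scheme.Modules.pullback r).obj (Twist.twist (MvPolynomial.homogeneousSubmodule (Fin (1 + 1)) R) (e : ℤ))

/-- The module `r^* O(1)`. -/
noncomputable abbrev Op (r : X ⟶ Proj (MvPolynomial.homogeneousSubmodule (Fin (1 + 1)) R)) : X.Modules :=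
  (Scheme.Modules.pullback r).obj (Twist.twist (MvPolynomial.homogeneousSubmodule (Fin (1 + 1)) R) 1)

/-- The section `r^* (X_0^(e-j) X_1^j)`. -/
noncomputable def ms (r : X ⟶ Proj (MvPolynomial.homogeneousSubmodule (Fin (1 + 1)) R)) (e : ℕ) (j : Fin (e + 1)) :
    Γ(Oe r e, ⊤) := pullTop r (mon R e j)

theorem res_ms_eq (r : X ⟶ Proj (MvPolynomial.homogeneousSubmodule (Fin (1 + 1)) R))
    (D : (Proj (MvPolynomial.homogeneousSubmodule (Fin (1 + 1)) R)).Opens) (e : ℕ) (j : Fin (e + 1)) :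
    res (Oe r e) (le_top : r ⁻¹ᵁ D ≤ ⊤) (ms r e j) = pullSec r (res _ (le_top : D ≤ ⊤) (mon R e j)) :=
  res_pullSec r (le_top : D ≤ ⊤) (mon R e j)

theorem isGen_res_ms (r : X ⟶ Proj (MvPolynomial.homogeneousSubmodule (Fin (1 + 1)) R)) (e : ℕ) (i : Fin (1 + 1))
    {V : X.Opens} (h : V ≤ r ⁻¹ᵁ Dp (Fin (1 + 1)) R i) : IsGen (res (Oe r e) (le_top : V ≤ ⊤) (ms r e (gi e i))) := by
  have h1 := ((isGen_res_mon R e i).pullSec r).res h
  rw [← res_ms_eq, res_res] at h1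
  exact h1

theorem res_ms (r : X ⟶ Proj (MvPolynomial.homogeneousSubmodule (Fin (1 + 1)) R)) (e : ℕ) (i : Fin (1 + 1))
    (j : Fin (e + 1)) {V : X.Opens} (h : V ≤ r ⁻¹ᵁ Dp (Fin (1 + 1)) R i) :
    res (Oe r e) (le_top : V ≤ ⊤) (ms r e j) =
      (r.appLE (Dp (Fin (1 + 1)) R i) V h (ProjStd.ratio (Fin (1 + 1)) R i (1 - i))) ^ (ei e j i) •
        res (Oe r e) (le_top : V ≤ ⊤) (ms r e (gi e i)) := by
  have h1 := congrArg (pullSec r) (res_mon R e i j)
  rw [pullSec_smul, ← res_ms_eq, ← res_ms_eq] at h1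
  have h2 := congrArg (res _ h) h1
  rw [res_smul, res_res, res_res, map_pow, map_pow] at h2
  exact h2

/-- Values at the local coordinates. -/
theorem exists_gen_local (r : X ⟶ Proj (MvPolynomial.homogeneousSubmodule (Fin (1 + 1)) R)) (e : ℕ) (i : Fin (1 + 1))
    {V : X.Opens} (h : V ≤ r ⁻¹ᵁ Dp (Fin (1 + 1)) R i) {t : Γ(Op r, V)} (ht : IsGen t) {A : Fin (1 + 1) → Γ(X, V)}
    (hA : ∀ a, res (Op r) (le_top : V ≤ ⊤) (tsec r a) = A a • t) :
    IsUnit (A i) ∧ ∃ t' : Γ(Oe r e, V), IsGen t' ∧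
      ∀ j : Fin (e + 1), res (Oe r e) (le_top : V ≤ ⊤) (ms r e j) = (A 0 ^ (e - (j : ℕ)) * A 1 ^ (j : ℕ)) • t' := by
  have h1 : IsUnit (A i) := ht.isUnit_of_smul (by rw [← hA]; exact isGen_res_tsec r i h)
  set q := r.appLE (Dp (Fin (1 + 1)) R i) V h (ProjStd.ratio (Fin (1 + 1)) R i (1 - i)) with hq
  have h2 : A (1 - i) = q * A i := by
    refine ht.ext ?_
    rw [← hA, res_tsec r i (1 - i) h, hA, mul_smul]
  obtain ⟨u, hu⟩ := id h1
  refine ⟨h1, (((u⁻¹ : (Γ(X, V))ˣ) : Γ(X, V)) ^ e) • res (Oe r e) (le_top : V ≤ ⊤) (ms r e (gi e i)),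
    (isGen_res_ms r e i h).unit_smul (u⁻¹.isUnit.pow e), fun j => ?_⟩
  have h3 : (j : ℕ) ≤ e := Nat.lt_succ_iff.1 j.2
  rw [res_ms r e i j h, smul_smul, ← hq]
  congr 1
  have h4 : A i ^ e * ((u⁻¹ : (Γ(X, V))ˣ) : Γ(X, V)) ^ e = 1 := by
    rw [← mul_pow, ← hu, Units.mul_inv, one_pow]
  have h5 : A 0 ^ (e - (j : ℕ)) * A 1 ^ (j : ℕ) = q ^ (ei e j i) * A i ^ e := by
    fin_cases i
    · change A 0 ^ (e - (j : ℕ)) * A 1 ^ (j : ℕ) = q ^ (j : ℕ) * A 0 ^ e
      have h6 : A 1 = q * A 0 := h2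
      rw [h6, mul_pow]
      calc _ = q ^ (j : ℕ) * (A 0 ^ (e - (j : ℕ)) * A 0 ^ (j : ℕ)) := by ring
        _ = _ := by rw [← pow_add, Nat.sub_add_cancel h3]
    · change A 0 ^ (e - (j : ℕ)) * A 1 ^ (j : ℕ) = q ^ (e - (j : ℕ)) * A 1 ^ e
      have h6 : A 0 = q * A 1 := h2
      rw [h6, mul_pow, mul_assoc, ← pow_add, Nat.sub_add_cancel h3]
  rw [h5, mul_assoc, h4, mul_one]

/-- Values at the coordinates: if `r^* X_a = A_a t` for a generator `t` then `r^* (X_0^(e-j) X_1^j) = A_0^(e-j) A_1^j t'` for a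
generator `t'`. -/
theorem exists_gen (r : X ⟶ Proj (MvPolynomial.homogeneousSubmodule (Fin (1 + 1)) R)) (e : ℕ)
    {V : X.Opens} {t : Γ(Op r, V)} (ht : IsGen t) {A : Fin (1 + 1) → Γ(X, V)}
    (hA : ∀ a, res (Op r) (le_top : V ≤ ⊤) (tsec r a) = A a • t) :
    ∃ t' : Γ(Oe r e, V), IsGen t' ∧
      ∀ j : Fin (e + 1), res (Oe r e) (le_top : V ≤ ⊤) (ms r e j) = (A 0 ^ (e - (j : ℕ)) * A 1 ^ (j : ℕ)) • t' := by
  let U : Fin (1 + 1) → X.Opens := fun i => V ⊓ r ⁻¹ᵁ Dp (Fin (1 + 1)) R i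
  have hU : ∀ i, U i ≤ V := fun i => inf_le_left
  have hU' : ∀ i, U i ≤ r ⁻¹ᵁ Dp (Fin (1 + 1)) R i := fun i => inf_le_right
  have hcov : V ≤ ⨆ i, U i := by
    rw [← inf_iSup_eq, iSup_preimage, inf_top_eq]
  have hloc := fun i => exists_gen_local r e i (hU' i) (ht.res (hU i)) (A := fun a => ores (hU i) (A a)) (fun a => by
    rw [← res_smul, ← hA, res_res])
  choose hunit s hs hs' using hloc
  obtain ⟨t', ht'⟩ := res_glue (Oe r e) U hU hcov s (fun i j => by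
    have h1 := congrArg (res (Oe r e) (inf_le_left : U i ⊓ U j ≤ U i)) (hs' i (gi e i))
    have h2 := congrArg (res (Oe r e) (inf_le_right : U i ⊓ U j ≤ U j)) (hs' j (gi e i))
    rw [res_res, res_smul, map_mul, map_pow, map_pow, ores_ores, ores_ores] at h1 h2
    have h3 := h1.symm.trans h2
    have h4 : ores ((inf_le_left : U i ⊓ U j ≤ U i).trans (hU i)) (A 0) ^ (e - (gi e i : ℕ)) *
        ores ((inf_le_left : U i ⊓ U j ≤ U i).trans (hU i)) (A 1) ^ (gi e i : ℕ) =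
        ores (inf_le_left : U i ⊓ U j ≤ U i) (ores (hU i) (A i)) ^ e := by
      fin_cases i
      · simp [gi]
      · simp [gi]
    have h5 : IsUnit (ores (inf_le_left : U i ⊓ U j ≤ U i) (ores (hU i) (A i)) ^ e) :=
      ((hunit i).map _).pow e
    rw [h4] at h3
    obtain ⟨v, hv⟩ := h5
    rw [← hv] at h3
    have h6 := congrArg (fun z => ((v⁻¹ : (Γ(X, U i ⊓ U j))ˣ) : Γ(X, U i ⊓ U j)) • z) h3
    simp only [smul_smul, Units.inv_mul, one_smul] at h6
    exact h6)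
  refine ⟨t', IsGen.of_cover U hU hcov fun i => by rw [ht']; exact hs i, fun j => ?_⟩
  refine res_ext (Oe r e) U hU hcov fun i => ?_
  rw [res_res, res_smul, ht', map_mul, map_pow, map_pow]
  exact hs' i j

end Pull

end K741.HonC
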