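import Groth.Agent.Fano.K741.HonCAlg
import Groth.Agent.Fano.K741.HonCMon
import Groth.Agent.CurvesC.DegIso
import Groth.Agent.Curves.K329.Deg

/-!
# `O(e)` on the projective line over a scheme, with the basis `X_0^(e-j) X_1^j` of its sections

`exists_basis`: node HC1 of `K239.PlanHon`.
-/

set_option autoImplicit false

universe u

open CategoryTheory CategoryTheory.Limits AlgebraicGeometry TopologicalSpace

namespace K741.HonC

open K390.PnSec Groth.Agent.Fdesc.LocGen Groth.Agent.Dix.ProjProper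
open Groth.Agent.Ega2.H295.PnUniq Groth.Agent.Ega2.H295.PnCoord
open Groth.Agent.VarietyB
open Groth.Agent.Sga67 Groth.Agent.Sga67.LocBasis Groth.Agent.Sga67.PnGlobal Groth.Agent.Sga67.PushTwist
open K188.LineDef K188.LinFun K745.ConDef K505.KonDef K239.HonDef K123.Van W4swstmapratcurves

attribute [local instance] MvPolynomial.gradedAlgebra

section Gen

variable {X Y T T' : Scheme.{u}}

/-- The pulled back sections. -/
theorem exists_cmp {R : Type u} [CommRing R] (ψ : Y ⟶ X) (r : X ⟶ CohB1.ProjSpace 1 R) {r' : Y ⟶ CohB1.ProjSpace 1 R}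
    (h : ψ ≫ r = r') (e : ℕ) : ∃ α : (Scheme.Modules.pullback ψ).obj (Oe r e) ≅ Oe r' e,
      ∀ j, α.hom.app ⊤ (pullTop ψ (ms r e j)) = ms r' e j := by
  subst h
  refine ⟨(Scheme.Modules.pullbackComp ψ r).app _, fun j => ?_⟩
  have h1 : ((Scheme.Modules.pullbackComp ψ r).inv.app (Twist.twistProjSpace 1 R (e : ℤ))).app ⊤ (ms (ψ ≫ r) e j) =
      pullTop ψ (ms r e j) := pullSec_comp ψ r (mon R e j)
  have h2 : ((Scheme.Modules.pullbackComp ψ r).hom.app (Twist.twistProjSpace 1 R (e : ℤ))).app ⊤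
      (((Scheme.Modules.pullbackComp ψ r).inv.app (Twist.twistProjSpace 1 R (e : ℤ))).app ⊤ (ms (ψ ≫ r) e j)) =
      ms (ψ ≫ r) e j :=
    congr(($((Scheme.Modules.pullbackComp ψ r).inv_hom_id_app (Twist.twistProjSpace 1 R (e : ℤ)))).app ⊤ (ms (ψ ≫ r) e j))
  rw [h1] at h2
  exact h2

/-- Values of `X_0^(e-j) X_1^j` at the point `[x_0 : x_1]`. -/
theorem exists_triv {R : Type u} [CommRing R] {r : Y ⟶ CohB1.ProjSpace 1 R} {x : Fin (1 + 1) → Γ(Y, ⊤)}
    (h : GivenBy r (Coh.structureModule Y) (fun a => ofFun (x a))) (e : ℕ) :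
    ∃ τ : Oe r e ≅ Coh.structureModule Y, ∀ j, τ.hom.app ⊤ (ms r e j) = ofFun (x 0 ^ (e - (j : ℕ)) * x 1 ^ (j : ℕ)) := by
  obtain ⟨τ, hτ⟩ := h
  have h1 : ∀ a, tsec r a = x a • τ.inv.app ⊤ (one ⊤) := fun a => by
    have h0 : τ.inv.app ⊤ (τ.hom.app ⊤ (tsec r a)) = tsec r a := congr(($(τ.hom_inv_id).app ⊤) (tsec r a))
    exact h0.symm.trans ((congrArg _ ((hτ a).trans (ofFun_eq_smul _))).trans
      (Scheme.Modules.Hom.app_smul τ.inv (x a) (one ⊤)))
  obtain ⟨t', ht', hj⟩ := exists_gen r e (V := ⊤) ((isGen_one ⊤).app τ.inv) (A := x) (fun a => by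
    rw [res_refl]; exact h1 a)
  obtain ⟨α, hα⟩ := exists_iso_of_isGen ht'
  refine ⟨α, fun j => ?_⟩
  have h2 := hj j
  rw [res_refl] at h2
  rw [h2, ofFun_eq_smul, ← hα]
  exact Scheme.Modules.Hom.app_smul α.hom _ t'

end Gen

section Basis

variable {C T : Scheme.{u}} {N : ℕ}

/-- The sections `s` are a basis of the sections of `M` over the functions on `T`. -/
def IsBas (f : C ⟶ T) {M : C.Modules} (s : Fin N → Γ(M, ⊤)) : Prop :=
  ∀ x : Γ(M, ⊤), ∃! a : Fin N → Γ(T, ⊤), x = ∑ j, (f.appTop (a j)) • s j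

theorem IsBas.of_bij {C' : Scheme.{u}} {f : C ⟶ T} {f' : C' ⟶ T} {M : C.Modules} {M' : C'.Modules} {s : Fin N → Γ(M, ⊤)}
    {s' : Fin N → Γ(M', ⊤)} (h : IsBas f s) (Φ : Γ(M, ⊤) → Γ(M', ⊤)) (hΦ : Function.Bijective Φ)
    (h' : ∀ a : Fin N → Γ(T, ⊤), Φ (∑ j, (f.appTop (a j)) • s j) = ∑ j, (f'.appTop (a j)) • s' j) : IsBas f' s' := by
  intro x
  obtain ⟨y, rfl⟩ := hΦ.2 x
  obtain ⟨a, ha, ha'⟩ := h y
  refine ⟨a, ?_, fun b hb => ha' b ?_⟩
  · change Φ y = _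
    rw [← h', ← ha]
  · exact hΦ.1 (hb.trans (h' b).symm)

theorem IsBas.of_iso {f : C ⟶ T} {M M' : C.Modules} {s : Fin N → Γ(M, ⊤)} {s' : Fin N → Γ(M', ⊤)} (h : IsBas f s)
    (α : M ≅ M') (hα : ∀ j, α.hom.app ⊤ (s j) = s' j) : IsBas f s' := by
  refine h.of_bij (α.hom.app ⊤) ?_ fun a => ?_
  · refine ⟨fun x y hxy => ?_, fun x => ⟨α.inv.app ⊤ x, congr(($(α.inv_hom_id).app ⊤) x)⟩⟩
    have h1 : ∀ z : Γ(M, ⊤), α.inv.app ⊤ (α.hom.app ⊤ z) = z := fun z => congr(($(α.hom_inv_id).app ⊤) z)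
    rw [← h1 x, ← h1 y]
    exact congrArg _ hxy
  · rw [app_sum_smul]
    simp only [hα]

theorem IsBas.of_schemeIso {C' : Scheme.{u}} {f : C ⟶ T} {M : C.Modules} {s : Fin N → Γ(M, ⊤)} (h : IsBas f s)
    (g : C' ≅ C) {f' : C' ⟶ T} (hf : g.hom ≫ f = f') : IsBas f' (fun j => pullTop g.hom (s j)) := by
  subst hf
  refine h.of_bij (pullTop g.hom) ?_ fun a => ?_
  · refine pullSec_bijective g.hom M (U := ⊤) ?_
    rw [Scheme.Hom.opensRange_of_isIso]
  · rw [pullTop_sum_smul, Scheme.Hom.comp_appTop]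
    rfl

variable (T) (e : ℕ)

/-- The monomials as sections of the direct image. -/
noncomputable def bms (j : Fin (e + 1)) :
    Sec.Sec ((Scheme.Modules.pushforward (CohB1.ProjSpaceOver.toBase 1 T)).obj
      (Twist.twistOver 1 T (e : ℤ))) ⊤ := gsec 1 T (ex2 e j)

theorem isLocBasis_bms : IsLocBasis (bms T e) := by
  have h := (K980.SecP1.isLocBasis_bsec (r := 1) T e).reindex
    ((Equiv.ofBijective _ (ex2_bijective e)).trans (enum 1 e).symm)
  have h1 : (fun i => bsec 1 T e (((Equiv.ofBijective _ (ex2_bijective e)).trans (enum 1 e).symm) i)) = bms T e := by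
    funext i
    change gsec 1 T (enum 1 e ((enum 1 e).symm (ex2 e i))) = gsec 1 T (ex2 e i)
    rw [Equiv.apply_symm_apply]
  rw [h1] at h
  exact h

theorem comb_bms (a : Fin (e + 1) → Γ(T, ⊤)) :
    (comb (bms T e) (le_refl ⊤) a : Γ(Oe (toZ 1 T) e, ⊤)) = ∑ i, ((pr T).appTop (a i)) • ms (toZ 1 T) e i := by
  rw [comb_apply]
  refine Finset.sum_congr rfl fun i _ => ?_
  have h1 : ms (toZ 1 T) e i = gsec 1 T (ex2 e i) := rfl
  rw [h1]
  simp
  rfl

/-- `X_0^(e-j) X_1^j` is a basis of the sections of `O(e)` on the projective line over `T`. -/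
theorem isBas_ms : IsBas (pr T) (ms (toZ 1 T) e) := by
  intro x
  obtain ⟨a, ha⟩ := (isLocBasis_bms T e ⊤ (le_refl ⊤)).2 x
  refine ⟨a, ha.symm.trans (comb_bms T e a), fun b hb => (isLocBasis_bms T e ⊤ (le_refl ⊤)).1 ?_⟩
  exact ((comb_bms T e b).trans hb.symm).trans ha.symm

/-- The basis after base change. -/
theorem isBas_of_isPullback {T' C' : Scheme.{u}} {i : C' ⟶ P1 T} {f' : C' ⟶ T'} {g : T' ⟶ T} (hP : IsPullback i f' (pr T) g) :
    IsBas f' (ms (i ≫ toZ 1 T) e) := by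
  let a : C' ≅ P1 T' := hP.isoIsPullback _ _ (isPullback_pmap g)
  have h1 : a.hom ≫ pmap g = i := hP.isoIsPullback_hom_fst _ _ _
  have h2 : a.hom ≫ pr _ = f' := hP.isoIsPullback_hom_snd _ _ _
  have h3 : a.hom ≫ toZ 1 T' = i ≫ toZ 1 T := by rw [← h1, Category.assoc, pmap_toZ]
  obtain ⟨α, hα⟩ := exists_cmp a.hom (toZ 1 T') h3 e
  exact ((isBas_ms T' e).of_schemeIso a h2).of_iso α hα

end Basis

section Van

variable {k : Type u} [Field k] {n d : ℕ} {C T : Scheme.{u}} {R : Type u} [CommRing R] {Q : Type u} [CommRing Q]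

/-- Restriction of linear combinations. -/
theorem res_lc {f : C ⟶ T} {r : C ⟶ CohB1.ProjSpace 1 Q} {e : ℕ} (φ : Fin (n + 1) → Fin (e + 1) → Γ(T, ⊤))
    {V : C.Opens} {t' : Γ(Oe r e, V)} {A : Fin (1 + 1) → Γ(C, V)}
    (h : ∀ j : Fin (e + 1), res (Oe r e) (le_top : V ≤ ⊤) (ms r e j) = (A 0 ^ (e - (j : ℕ)) * A 1 ^ (j : ℕ)) • t')
    (l : Fin (n + 1)) : res (Oe r e) (le_top : V ≤ ⊤) (lc f (ms r e) φ l) =
      (∑ j : Fin (e + 1), ρV f V (φ l j) * (A 0 ^ (e - (j : ℕ)) * A 1 ^ (j : ℕ))) • t' := by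
  rw [lc, map_sum, Finset.sum_smul]
  refine Finset.sum_congr rfl fun j _ => ?_
  rw [res_smul, h, smul_smul]
  rfl

/-- The value of the form on an open subset. -/
theorem eval₂_lc (G : LefPen.Form n k d) (f : C ⟶ T) {e : ℕ} (φ0 : k →+* R) (ρ0 : R →+* Γ(T, ⊤))
    (φ : Fin (n + 1) → Fin (e + 1) → Γ(T, ⊤)) {V : C.Opens} (A : Fin (1 + 1) → Γ(C, V)) :
    MvPolynomial.eval₂ (ρV f V) (fun l => ∑ j : Fin (e + 1), ρV f V (φ l j) * (A 0 ^ (e - (j : ℕ)) * A 1 ^ (j : ℕ)))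
      (G.1.map (ρ0.comp φ0)) =
      ∑ m : Fin (d * e + 1), ρV f V (MvPolynomial.eval₂ ρ0 (fun p => φ p.1 p.2) (honP φ0 G.1 d e m)) *
        (A 0 ^ (d * e - (m : ℕ)) * A 1 ^ (m : ℕ)) := by
  rw [MvPolynomial.eval₂_map]
  refine (eval₂_hom e φ0 ((MvPolynomial.mem_homogeneousSubmodule _ _).1 G.2) ((ρV f V).comp ρ0) (fun l j => ρV f V (φ l j))
      (A 0) (A 1)).trans ?_
  refine Finset.sum_congr rfl fun m _ => ?_
  rw [MvPolynomial.eval₂_comp_left (ρV f V) ρ0 (fun p : Fin (n + 1) × Fin (e + 1) => φ p.1 p.2)]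
  rfl

/-- Vanishing of a form at a linear combination of the sections `X_0^(e-j) X_1^j`. -/
theorem van_iff (G : LefPen.Form n k d) {f : C ⟶ T} {r : C ⟶ CohB1.ProjSpace 1 Q}
    {e : ℕ} (hb : IsBas f (ms r (d * e))) (φ0 : k →+* R) (ρ0 : R →+* Γ(T, ⊤)) (φ : Fin (n + 1) → Fin (e + 1) → Γ(T, ⊤)) :
    Van f (lc f (ms r e) φ) (G.1.map (ρ0.comp φ0)) ↔
      ∀ m, MvPolynomial.eval₂ ρ0 (fun p => φ p.1 p.2) (honP φ0 G.1 d e m) = 0 := by
  have hinv : PicF.IsInvertible (Op r) := isInvertible_pullback _ (isInvertible_O1 1 Q)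
  constructor
  · intro h
    have h1 : ∑ m, (f.appTop (MvPolynomial.eval₂ ρ0 (fun p => φ p.1 p.2) (honP φ0 G.1 d e m))) • ms r (d * e) m =
        ∑ m, (f.appTop 0) • ms r (d * e) m := by
      have h2 : ∀ x : C, ∃ V : C.Opens, x ∈ V ∧ ∑ m, ρV f V (MvPolynomial.eval₂ ρ0 (fun p => φ p.1 p.2)
          (honP φ0 G.1 d e m)) • res (Oe r (d * e)) (le_top : V ≤ ⊤) (ms r (d * e) m) = 0 := by
        intro x
        obtain ⟨V, t, hx, ht⟩ := (isInvertible_iff _).1 hinv x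
        choose A hA using fun a => ht.exists_eq (res (Op r) (le_top : V ≤ ⊤) (tsec r a))
        obtain ⟨t', ht', hj⟩ := exists_gen r e ht hA
        obtain ⟨s, hs, hm⟩ := exists_gen r (d * e) ht hA
        refine ⟨V, hx, ?_⟩
        have h3 := h V t' _ ht' fun l => res_lc φ hj l
        rw [eval₂_lc] at h3
        have h4 := congrArg (fun z => z • s) h3
        simp only [zero_smul, Finset.sum_smul, mul_smul] at h4
        simp only [hm, mul_smul]
        exact h4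
      choose V hxV hV using h2
      refine res_ext (Oe r (d * e)) V (fun x => le_top) (fun x _ => Opens.mem_iSup.2 ⟨x, hxV x⟩) fun x => ?_
      simp only [map_sum, res_smul, map_zero, zero_smul, Finset.sum_const_zero]
      exact hV x
    obtain ⟨a, -, ha⟩ := hb (∑ m, (f.appTop 0) • ms r (d * e) m)
    have h2 := (ha _ h1.symm).trans (ha (fun _ => 0) rfl).symm
    exact fun m => congrFun h2 m
  · intro h
    refine van_of_cover (((MvPolynomial.mem_homogeneousSubmodule _ _).1 G.2).map _) fun x => ?_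
    obtain ⟨V, t, hx, ht⟩ := (isInvertible_iff _).1 hinv x
    choose A hA using fun a => ht.exists_eq (res (Op r) (le_top : V ≤ ⊤) (tsec r a))
    obtain ⟨t', ht', hj⟩ := exists_gen r e ht hA
    refine ⟨V, hx, t', _, ht', fun l => res_lc φ hj l, ?_⟩
    rw [eval₂_lc]
    refine Finset.sum_eq_zero fun m _ => ?_
    rw [h m, map_zero, zero_mul]

end Van

section Main

variable {k : Type u} [Field k] {n d : ℕ} (G : LefPen.Form n k d) (e : ℕ)

theorem lc_iso {T C : Scheme.{u}} (f : C ⟶ T) {L L' : C.Modules} (x : Fin (e + 1) → Γ(L, ⊤)) (x' : Fin (e + 1) → Γ(L', ⊤))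
    (α : L ≅ L') (h : ∀ j, α.hom.app ⊤ (x j) = x' j) (φ : Fin (n + 1) → Fin (e + 1) → Γ(T, ⊤)) (l : Fin (n + 1)) :
    α.hom.app ⊤ (lc f x φ l) = lc f x' φ l := by
  rw [lc, lc, app_sum_smul]
  simp only [h]

/-- Node HC1: `O(e)` on the projective line over `T`, with the basis `X_0^(e-j) X_1^j`: basis of the sections, degree, and
vanishing of a form at a linear combination. -/
theorem exists_basis (T : Scheme.{u}) : ∃ (L : (P1 T).Modules) (ε : Fin (e + 1) → Γ(L, ⊤)), PicF.IsInvertible L ∧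
    (∀ {T' C' : Scheme.{u}} (i : C' ⟶ P1 T) (f' : C' ⟶ T') (g : T' ⟶ T), IsPullback i f' (pr T) g →
      ∀ s : Γ((Scheme.Modules.pullback i).obj L, ⊤), ∃! a : Fin (e + 1) → Γ(T', ⊤),
        s = ∑ j, (f'.appTop (a j)) • pullTop i (ε j)) ∧
    (∀ (Ω : Type u) [Field Ω] [IsAlgClosed Ω] (t : Spec (CommRingCat.of Ω) ⟶ T) (Xt : Scheme.{u})
      (i : Xt ⟶ P1 T) (q : Xt ⟶ Spec (CommRingCat.of Ω)), IsPullback i q (pr T) t →
      letI : Xt.Over (Spec (CommRingCat.of Ω)) := ⟨q⟩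
      Curv2.deg Ω Xt ((Scheme.Modules.pullback i).obj L) 1 = e) ∧
    (∀ (q : T ⟶ Spec (CommRingCat.of k)) {T' C' : Scheme.{u}} (i : C' ⟶ P1 T) (f' : C' ⟶ T') (g : T' ⟶ T), IsPullback i f' (pr T) g →
      ∀ φ : Fin (n + 1) → Fin (e + 1) → Γ(T', ⊤),
        Van f' (lc f' (fun j => pullTop i (ε j)) φ) (G.1.map (kmap (g ≫ q))) ↔
          ∀ m, MvPolynomial.eval₂ g.appTop.hom (fun p => φ p.1 p.2) (honP (kmap q) G.1 d e m) = 0) ∧
    -- the values at the points `[a : b]`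
    (∀ {Y : Scheme.{u}} (ψ : Y ⟶ P1 T) (x : Fin 2 → Γ(Y, ⊤)),
      GivenBy (ψ ≫ toZ 1 T) (Coh.structureModule Y) (fun a => ofFun (x a)) →
      ∃ τ : (Scheme.Modules.pullback ψ).obj L ≅ Coh.structureModule Y,
        ∀ j, τ.hom.app ⊤ (pullTop ψ (ε j)) = ofFun (x 0 ^ (e - (j : ℕ)) * x 1 ^ (j : ℕ))) := by
  refine ⟨Oe (toZ 1 T) e, ms (toZ 1 T) e, ?_, ?_, ?_, ?_, ?_⟩
  · refine isInvertible_pullback _ ?_
    rw [isInvertible_iff]
    intro x
    obtain ⟨i, hi⟩ := exists_mem (𝟙 (CohB1.ProjSpace 1 Z.{u})) x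
    exact ⟨Dp (Fin (1 + 1)) Z.{u} i, _, hi, isGen_res_mon Z.{u} e i⟩
  · intro T' C' i f' g hP
    obtain ⟨α, hα⟩ := exists_cmp i (toZ 1 T) rfl e
    refine (isBas_of_isPullback T e hP).of_iso α.symm fun j => ?_
    exact (congrArg (α.inv.app ⊤) (hα j).symm).trans
      congr(($(α.hom_inv_id).app ⊤) (pullTop i (ms (toZ 1 T) e j)))
  · intro Ω _ _ t Xt i q hP
    let _ : Xt.Over (Spec (CommRingCat.of Ω)) := ⟨q⟩
    have hc := Groth.Agent.Ega3A.PChart.isPullback_chart 1 t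
    let a : Xt ≅ CohB1.ProjSpace 1 Ω := hP.isoIsPullback _ _ hc
    have h1 : a.hom ≫ Groth.Agent.Ega3A.PChart.chart 1 t = i := hP.isoIsPullback_hom_fst _ _ _
    have h2 : a.hom ≫ CohB1.ProjSpace.toSpec 1 Ω = q := hP.isoIsPullback_hom_snd _ _ _
    have α : (Scheme.Modules.pullback i).obj (Oe (toZ 1 T) e) ≅
        (Scheme.Modules.pullback a.hom).obj (Twist.twistProjSpace 1 Ω (e : ℤ)) :=
      (Scheme.Modules.pullbackCongr h1.symm).app _ ≪≫
        (Scheme.Modules.pullbackComp a.hom (Groth.Agent.Ega3A.PChart.chart 1 t)).symm.app _ ≪≫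
        (Scheme.Modules.pullback a.hom).mapIso (Groth.Agent.Ega3A.PChart.chartTwistIso 1 t (e : ℤ))
    rw [Groth.Agent.CurvesC.DegIso.deg_congr Ω α, Groth.Agent.CurvesC.DegIso.deg_pullback_iso Ω a h2,
      K329.Deg.deg_twist]
  · intro q T' C' i f' g hP φ
    obtain ⟨α, hα⟩ := exists_cmp i (toZ 1 T) rfl e
    rw [van_iso_iff α (fun l => lc_iso e f' _ _ α hα φ l), K188.OnHypL.kmap_comp]
    exact van_iff G (isBas_of_isPullback T (d * e) hP) (kmap q) g.appTop.hom φ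
  · intro Y ψ x h
    obtain ⟨α, hα⟩ := exists_cmp ψ (toZ 1 T) rfl e
    obtain ⟨τ, hτ⟩ := exists_triv h e
    refine ⟨α ≪≫ τ, fun j => ?_⟩
    rw [← hτ, ← hα]
    rfl

end Main

end K741.HonC
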