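import Groth.Agent.Fano.K239.HonDef
import Mathlib.Algebra.Polynomial.Homogenize

/-!
# The equations of the maps from the projective line: the value of a form at a binary vector

* `eval₂_hom`: `G(Σ_j y_{l,j} A^(e-j) B^j) = Σ_m h_m(y) A^(de-m) B^m`, `h_m = honP φ G d e m`.
-/

set_option autoImplicit false

universe u v

namespace K741.HonC

open K239.HonDef MvPolynomial

variable {k R : Type u} [Field k] [CommRing R] {S : Type v} [CommRing S] {n d : ℕ} (e : ℕ)

/-- The binary form `Σ_j φ_{l,j} X_1^(e-j) X_0^j`. -/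
theorem homogenize_genPt (l : Fin (n + 1)) :
    (genPt R n e l).homogenize e = ∑ j : Fin (e + 1), C (X (l, j)) * (X 0 ^ (j : ℕ) * X 1 ^ (e - (j : ℕ))) := by
  rw [genPt, Polynomial.homogenize_finsetSum]
  refine Finset.sum_congr rfl fun j _ => ?_
  rw [Polynomial.homogenize_C_mul, Polynomial.homogenize_X_pow (Nat.lt_succ_iff.1 j.2)]

theorem natDegree_genPt_le (l : Fin (n + 1)) : (genPt R n e l).natDegree ≤ e := by
  rw [genPt]
  refine Polynomial.natDegree_sum_le_of_forall_le _ _ fun j _ => ?_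
  exact (Polynomial.natDegree_C_mul_X_pow_le _ _).trans (Nat.lt_succ_iff.1 j.2)

theorem homogenize_eval₂ (φ : k →+* R) {G : MvPolynomial (Fin (n + 1)) k} (hG : G.IsHomogeneous d) :
    (eval₂ (Polynomial.C.comp (C.comp φ)) (genPt R n e) G).homogenize (d * e) =
      eval₂ (C.comp (C.comp φ)) (fun l => (genPt R n e l).homogenize e) G := by
  refine Polynomial.homogenize_eq_of_isHomogeneous ?_ ?_
  · rw [mul_comm]
    exact hG.eval₂ _ _ (fun r => isHomogeneous_C _ _) (fun l => Polynomial.isHomogeneous_homogenize _)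
  · have h1 := eval₂_comp_left
      (aeval ![Polynomial.X, (1 : Polynomial (MvPolynomial (Fin (n + 1) × Fin (e + 1)) R))] :
        MvPolynomial (Fin 2) (MvPolynomial (Fin (n + 1) × Fin (e + 1)) R) →ₐ[
          MvPolynomial (Fin (n + 1) × Fin (e + 1)) R] _).toRingHom
      (C.comp (C.comp φ)) (fun l => (genPt R n e l).homogenize e) G
    refine Eq.trans h1 ?_
    congr 1
    · ext a
      simp
    · funext l
      exact Polynomial.aeval_homogenize_X_one _ (natDegree_genPt_le e l)

/-- The value of a form at the vector `(Σ_j y_{l,j} A^(e-j) B^j)_l`. -/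
theorem eval₂_hom (φ : k →+* R) {G : MvPolynomial (Fin (n + 1)) k} (hG : G.IsHomogeneous d) (ρ : R →+* S)
    (y : Fin (n + 1) → Fin (e + 1) → S) (A B : S) :
    eval₂ (ρ.comp φ) (fun l => ∑ j : Fin (e + 1), y l j * (A ^ (e - (j : ℕ)) * B ^ (j : ℕ))) G =
      ∑ m : Fin (d * e + 1), eval₂ ρ (fun p => y p.1 p.2) (honP φ G d e m) * (A ^ (d * e - (m : ℕ)) * B ^ (m : ℕ)) := by
  let Θ : MvPolynomial (Fin (n + 1) × Fin (e + 1)) R →+* S := eval₂Hom ρ (fun p => y p.1 p.2)
  let Ψ : MvPolynomial (Fin 2) (MvPolynomial (Fin (n + 1) × Fin (e + 1)) R) →+* S := eval₂Hom Θ ![B, A]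
  have h1 := congrArg Ψ (homogenize_eval₂ e φ hG)
  have h2 : Ψ (eval₂ (C.comp (C.comp φ)) (fun l => (genPt R n e l).homogenize e) G) =
      eval₂ (ρ.comp φ) (fun l => ∑ j : Fin (e + 1), y l j * (A ^ (e - (j : ℕ)) * B ^ (j : ℕ))) G := by
    rw [eval₂_comp_left]
    congr 1
    · ext a
      simp [Ψ, Θ]
    · funext l
      change Ψ ((genPt R n e l).homogenize e) = _
      rw [homogenize_genPt, map_sum]
      refine Finset.sum_congr rfl fun j _ => ?_
      simp [Ψ, Θ]
      ring
  rw [h2] at h1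
  rw [← h1, Polynomial.homogenize, map_sum, Finset.Nat.sum_antidiagonal_eq_sum_range_succ_mk, Finset.sum_range]
  refine Finset.sum_congr rfl fun m _ => ?_
  simp only [Ψ, Θ, coe_eval₂Hom, eval₂_monomial]
  rw [Finsupp.prod_fintype _ _ (by simp), Fin.prod_univ_two]
  simp [honP]
  ring

end K741.HonC
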